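import Cfsg.Agent.Lib.J1Classes.Search

/-! Centraliser count for the element of order 6. -/

set_option autoImplicit false
set_option maxRecDepth 100000

namespace CfsgLib.J1Classes

theorem count_3_0 : matchPart (repC 21) 0 ≤ 2 := by
  decide +kernel

theorem count_3_1 : matchPart (repC 21) 1 ≤ 1 := by
  decide +kernel

theorem count_3_2 : matchPart (repC 21) 2 ≤ 1 := by
  decide +kernel

theorem count_3_3 : matchPart (repC 21) 3 ≤ 1 := by
  decide +kernel

theorem count_3_4 : matchPart (repC 21) 4 ≤ 0 := by
  decide +kernel

theorem count_3_5 : matchPart (repC 21) 5 ≤ 0 := by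
  decide +kernel

theorem count_3_6 : matchPart (repC 21) 6 ≤ 1 := by
  decide +kernel

theorem count_3 : countOk (repC 21) 6 = true :=
  countOk_of_parts _ _ [2, 1, 1, 1, 0, 0, 1] (by decide) fun k hk => by
    match k, hk with
    | 0, _ => exact count_3_0
    | 1, _ => exact count_3_1
    | 2, _ => exact count_3_2
    | 3, _ => exact count_3_3
    | 4, _ => exact count_3_4
    | 5, _ => exact count_3_5
    | 6, _ => exact count_3_6
    | n + 7, h => exact absurd h (by omega)

end CfsgLib.J1Classes
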