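import Mathlib

/-! Class representatives of J1: transversal index, exponent, inverse exponent, order, trace,
centraliser order. -/

set_option autoImplicit false

namespace CfsgLib.J1Classes

/-- The fourteen non-trivial classes. -/
def classData : List (ℕ × ℕ × ℕ × ℕ × ℕ × ℕ) := [
    (1, 1, 1, 7, 0, 7),
    (2, 1, 1, 5, 7, 30),
    (4, 1, 1, 10, 5, 10),
    (2, 2, 3, 5, 3, 30),
    (16, 1, 1, 11, 7, 11),
    (6, 1, 1, 19, 4, 19),
    (21, 1, 1, 6, 10, 6),
    (4, 3, 7, 10, 9, 10),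
    (6, 2, 10, 19, 7, 19),
    (6, 4, 5, 19, 2, 19),
    (18, 1, 1, 2, 10, 120),
    (264, 1, 1, 3, 1, 30),
    (133, 1, 1, 15, 8, 15),
    (133, 2, 8, 15, 5, 15)]

end CfsgLib.J1Classes
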