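import Cfsg.Agent.Lib.J1Classes.Count0
import Cfsg.Agent.Lib.J1Classes.Count1
import Cfsg.Agent.Lib.J1Classes.Count2
import Cfsg.Agent.Lib.J1Classes.Count3
import Cfsg.Agent.Lib.J1Classes.Count4
import Cfsg.Agent.Lib.J1Classes.Count5
import Cfsg.Agent.Lib.J1Classes.Count6
import Cfsg.Agent.Lib.J1Classes.Count7
import Cfsg.Agent.Lib.J1Classes.Count8
import Cfsg.Agent.Lib.J1Classes.Data

/-!
The classes of J1: every element is trivial or conjugate to one of fourteen representatives.
-/

set_option autoImplicit false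
set_option maxRecDepth 100000

namespace CfsgLib.J1Classes

open CfsgLib.Golay CfsgLib.Golay.J1
open scoped MatrixGroups Pointwise

/-- The data at an index. -/
def cd (k : Fin 14) : ℕ × ℕ × ℕ × ℕ × ℕ × ℕ := classData.getD k.val (0, 0, 0, 1, 0, 1)

/-- The base code. -/
def baseC (k : Fin 14) : ℕ := repC (cd k).1

/-- The code of a class representative. -/
def clsC (k : Fin 14) : ℕ := powM (baseC k) (cd k).2.1

/-- The order. -/
def clsOrd (k : Fin 14) : ℕ := (cd k).2.2.2.1

/-- The trace. -/
def clsTr (k : Fin 14) : ℕ := (cd k).2.2.2.2.1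

/-- The centraliser order. -/
def clsCent (k : Fin 14) : ℕ := (cd k).2.2.2.2.2

theorem count_base : ∀ k : Fin 14, countOk (baseC k) (clsCent k) = true := by
  intro k
  fin_cases k
  · exact count_4
  · exact count_2
  · exact count_5
  · exact count_2
  · exact count_6
  · exact count_8
  · exact count_3
  · exact count_5
  · exact count_8
  · exact count_8
  · exact count_0
  · exact count_1
  · exact count_7
  · exact count_7

/-- The facts checked at a class. -/
def clsCheck (k : Fin 14) : Bool :=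
  (powM (clsC k) (cd k).2.2.1).beq (mulM (baseC k) oneM) &&
  (mulM (baseC k) oneM).beq (baseC k) &&
  (powM (clsC k) (clsOrd k)).beq oneM &&
  ((List.range (clsOrd k)).all fun m => m.beq 0 || !(powM (clsC k) m).beq oneM) &&
  decide (Matrix.trace (toMat (clsC k)) = (clsTr k : ZMod 11)) &&
  (1 : ℕ).blt (clsOrd k) && (clsTr k).blt 11 && (1 : ℕ).ble (clsCent k)

theorem cls_ok : ∀ k : Fin 14, clsCheck k = true := by decide +kernel

theorem cls_sum : ∑ k : Fin 14, 175560 / clsCent k = 175559 ∧
    (∀ k : Fin 14, clsCent k ∣ 175560) ∧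
    ∀ k l : Fin 14, clsOrd k = clsOrd l → clsTr k = clsTr l → k = l := by
  refine ⟨?_, ?_, ?_⟩ <;> decide +kernel

attribute [local irreducible] mulM okM val oneM powM repC baseC clsC toMat clsCheck

theorem ok_baseC (k : Fin 14) : okM (baseC k) = true := by
  rw [baseC]; exact ok_repC _

theorem ok_clsC (k : Fin 14) : okM (clsC k) = true := by
  rw [clsC]; exact (val_powM (ok_baseC k) _).1

theorem mem_clsC (k : Fin 14) : val (clsC k) ∈ grpJ1 := by
  rw [clsC, (val_powM (ok_baseC k) _).2, baseC]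
  exact grpJ1.pow_mem (mem_repC _) _

/-- The class representatives in J1. -/
noncomputable def clsElt (k : Fin 14) : grpJ1 := ⟨val (clsC k), mem_clsC k⟩

theorem cls_facts (k : Fin 14) :
    val (clsC k) ^ (cd k).2.2.1 = val (baseC k) ∧ orderOf (clsElt k) = clsOrd k ∧
    Matrix.trace ((clsElt k : GL (Fin 7) (ZMod 11)) : Matrix (Fin 7) (Fin 7) (ZMod 11)) =
      (clsTr k : ZMod 11) ∧ 1 < clsOrd k ∧ 1 ≤ clsCent k ∧ clsTr k < 11 := by
  have h := cls_ok k
  rw [clsCheck] at h
  simp only [Bool.and_eq_true, Nat.beq_eq, List.all_eq_true, List.mem_range, Bool.or_eq_true,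
    Bool.not_eq_true', decide_eq_true_eq, Nat.blt_eq, Nat.ble_eq] at h
  obtain ⟨⟨⟨⟨⟨⟨⟨h1, h1'⟩, h2⟩, h3⟩, h4⟩, h5⟩, h6⟩, h7⟩ := h
  have hok := ok_clsC k
  refine ⟨?_, ?_, ?_, h5, h7, h6⟩
  · rw [← (val_powM hok _).2, h1, h1']
  · rw [← Subgroup.orderOf_coe]
    refine (orderOf_eq_iff (by omega)).2 ⟨?_, fun m hm hm0 hc => ?_⟩
    · show val (clsC k) ^ clsOrd k = 1
      rw [← (val_powM hok _).2, h2, val_one']
    · rcases h3 m hm with e | e
      · omega
      · refine Nat.ne_of_beq_eq_false e (canon_inj (canon_powM hok m) canon_one ?_)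
        rw [(val_powM hok m).2, val_one']
        exact hc
  · show Matrix.trace (Units.val (val (clsC k))) = _
    rw [val_coe hok, h4]

instance instFiniteJ1 : Finite grpJ1 :=
  Nat.finite_of_card_ne_zero (by rw [card_grpJ1]; norm_num)

theorem card_centralizer_le (k : Fin 14) :
    Nat.card {g : grpJ1 // g * clsElt k = clsElt k * g} ≤ clsCent k := by
  have key : ∀ g : {g : grpJ1 // g * clsElt k = clsElt k * g},
      (g.1 : GL (Fin 7) (ZMod 11)) * val (baseC k) = val (baseC k) * g.1 := by
    intro g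
    have h : Commute ((g.1 : grpJ1) : GL (Fin 7) (ZMod 11)) (val (clsC k)) :=
      congrArg Subtype.val g.2
    have := h.pow_right (cd k).2.2.1
    rw [(cls_facts k).1] at this
    exact this
  refine le_trans (Nat.card_le_card_of_injective (fun g => ⟨g.1, key g⟩) ?_)
    (card_cent_le (ok_baseC k) (count_base k))
  intro a b h
  apply Subtype.ext
  simpa using congrArg Subtype.val h

/-- Every element is trivial or conjugate to a representative. -/
theorem exists_cls (g : grpJ1) : g = 1 ∨ ∃ k : Fin 14, IsConj (clsElt k) g := by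
  classical
  haveI : Fintype grpJ1 := Fintype.ofFinite _
  set cl : Fin 14 → Finset grpJ1 := fun k =>
    Finset.univ.image fun y => y * clsElt k * y⁻¹ with hcl
  have hmem : ∀ k y, y ∈ cl k → IsConj (clsElt k) y := by
    intro k y hy
    obtain ⟨c, -, rfl⟩ := Finset.mem_image.1 hy
    exact isConj_iff.2 ⟨c, rfl⟩
  have hsize : ∀ k, 175560 / clsCent k ≤ (cl k).card := by
    intro k
    have hle := Finset.card_le_mul_card_image (f := fun y : grpJ1 => y * clsElt k * y⁻¹)
      (Finset.univ : Finset grpJ1) (clsCent k) ?_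
    · rw [Finset.card_univ, ← Nat.card_eq_fintype_card, card_grpJ1] at hle
      exact (Nat.div_le_iff_le_mul_add_pred (cls_facts k).2.2.2.2.1).2
        (le_trans hle (Nat.le_add_right _ _))
    · intro b hb
      obtain ⟨y0, -, rfl⟩ := Finset.mem_image.1 hb
      refine le_trans ?_ (card_centralizer_le k)
      rw [Nat.card_eq_fintype_card, ← Finset.card_univ]
      refine Finset.card_le_card_of_injOn (fun y => if h : (y0⁻¹ * y) * clsElt k =
          clsElt k * (y0⁻¹ * y) then ⟨y0⁻¹ * y, h⟩ else ⟨1, by simp⟩) (fun _ _ => Finset.mem_univ _) ?_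
      intro a ha b hb he
      simp only [Finset.coe_filter, Finset.mem_univ, true_and, Set.mem_ofPred_eq] at ha hb
      have key : ∀ y : grpJ1, y * clsElt k * y⁻¹ = y0 * clsElt k * y0⁻¹ →
          (y0⁻¹ * y) * clsElt k = clsElt k * (y0⁻¹ * y) := fun y hy => by
        calc y0⁻¹ * y * clsElt k = y0⁻¹ * (y * clsElt k * y⁻¹) * y := by group
          _ = clsElt k * (y0⁻¹ * y) := by rw [hy]; group
      simp only [dif_pos (key a ha), dif_pos (key b hb), Subtype.mk.injEq, mul_right_inj] at he
      exact he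
  have hinv : ∀ k y, y ∈ cl k → orderOf y = clsOrd k ∧
      Matrix.trace ((y : GL (Fin 7) (ZMod 11)) : Matrix (Fin 7) (Fin 7) (ZMod 11)) =
        (clsTr k : ZMod 11) := by
    intro k y hy
    obtain ⟨c, -, rfl⟩ := Finset.mem_image.1 hy
    obtain ⟨-, ho, ht, -⟩ := cls_facts k
    refine ⟨by rw [← ho]; exact (MulAut.conj c).orderOf_eq _, ?_⟩
    rw [← ht]
    simp only [Subgroup.coe_mul, Units.val_mul, Subgroup.coe_inv]
    exact Matrix.trace_units_conj _ _
  have hdisj : ∀ k l, k ≠ l → Disjoint (cl k) (cl l) := by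
    intro k l hkl
    rw [Finset.disjoint_left]
    intro y hk hl
    obtain ⟨o1, t1⟩ := hinv k y hk
    obtain ⟨o2, t2⟩ := hinv l y hl
    refine hkl (cls_sum.2.2 k l (o1.symm.trans o2) ?_)
    have := congrArg ZMod.val (t1.symm.trans t2)
    rwa [ZMod.val_natCast, ZMod.val_natCast, Nat.mod_eq_of_lt (cls_facts k).2.2.2.2.2,
      Nat.mod_eq_of_lt (cls_facts l).2.2.2.2.2] at this
  set U := (Finset.univ : Finset (Fin 14)).biUnion cl with hU
  have hUcard : 175559 ≤ U.card := by
    rw [hU, Finset.card_biUnion (fun k _ l _ h => hdisj k l h), ← cls_sum.1]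
    exact Finset.sum_le_sum fun k _ => hsize k
  by_cases hg : g = 1
  · exact Or.inl hg
  right
  have hone : (1 : grpJ1) ∉ U := by
    intro h1
    obtain ⟨k, -, hk⟩ := Finset.mem_biUnion.1 h1
    have := (hinv k 1 hk).1
    rw [orderOf_one] at this
    have := (cls_facts k).2.2.2.1
    omega
  have heq : U = (Finset.univ : Finset grpJ1).erase 1 := by
    refine Finset.eq_of_subset_of_card_le (fun y hy => Finset.mem_erase.2
      ⟨fun h => hone (h ▸ hy), Finset.mem_univ _⟩) ?_
    rw [Finset.card_erase_of_mem (Finset.mem_univ _), Finset.card_univ,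
      ← Nat.card_eq_fintype_card, card_grpJ1]
    omega
  have : g ∈ U := heq ▸ Finset.mem_erase.2 ⟨hg, Finset.mem_univ _⟩
  obtain ⟨k, -, hk⟩ := Finset.mem_biUnion.1 this
  exact ⟨k, hmem k g hk⟩

theorem orderOf_mem (g : grpJ1) : orderOf g ∈ [1, 2, 3, 5, 6, 7, 10, 11, 15, 19] := by
  rcases exists_cls g with rfl | ⟨k, hk⟩
  · simp
  obtain ⟨c, rfl⟩ := isConj_iff.1 hk
  have h := (MulAut.conj c).orderOf_eq (clsElt k)
  rw [MulAut.conj_apply] at h
  rw [h, (cls_facts k).2.1]
  clear h hk
  revert k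
  decide +kernel

end CfsgLib.J1Classes
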