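import Cfsg.Agent.Lib.J1Classes.Search

/-! Centraliser count for the element of order 2. -/

set_option autoImplicit false
set_option maxRecDepth 100000

namespace CfsgLib.J1Classes

theorem count_0_0 : matchPart (repC 18) 0 ≤ 16 := by
  decide +kernel

theorem count_0_1 : matchPart (repC 18) 1 ≤ 28 := by
  decide +kernel

theorem count_0_2 : matchPart (repC 18) 2 ≤ 14 := by
  decide +kernel

theorem count_0_3 : matchPart (repC 18) 3 ≤ 14 := by
  decide +kernel

theorem count_0_4 : matchPart (repC 18) 4 ≤ 20 := by
  decide +kernel

theorem count_0_5 : matchPart (repC 18) 5 ≤ 18 := by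
  decide +kernel

theorem count_0_6 : matchPart (repC 18) 6 ≤ 10 := by
  decide +kernel

theorem count_0 : countOk (repC 18) 120 = true :=
  countOk_of_parts _ _ [16, 28, 14, 14, 20, 18, 10] (by decide) fun k hk => by
    match k, hk with
    | 0, _ => exact count_0_0
    | 1, _ => exact count_0_1
    | 2, _ => exact count_0_2
    | 3, _ => exact count_0_3
    | 4, _ => exact count_0_4
    | 5, _ => exact count_0_5
    | 6, _ => exact count_0_6
    | n + 7, h => exact absurd h (by omega)

end CfsgLib.J1Classes
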