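import Cfsg.Agent.Lib.J1Classes.Powers
import Cfsg.Agent.Lib.Recognition.IcosaPres

/-!
The centraliser of an involution of J1 is Z2 × A5.
-/

set_option autoImplicit false
set_option maxRecDepth 100000

namespace CfsgLib.J1Classes

open CfsgLib.Golay CfsgLib.Golay.J1
open scoped MatrixGroups Pointwise

/-- The involution. -/
def invC : ℕ := repC 18

/-- An element of order three commuting with the involution. -/
def icoA : ℕ := gC 390 16

/-- An element of order five commuting with the involution. -/
def icoB : ℕ := gC 1476 27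

theorem ico_checks : (mulM icoA invC).beq (mulM invC icoA) = true ∧
    (mulM icoB invC).beq (mulM invC icoB) = true ∧ (powM icoA 3).beq oneM = true ∧
    (powM icoB 5).beq oneM = true ∧ (powM (mulM icoA icoB) 2).beq oneM = true ∧
    (powM icoA 1).beq oneM = false ∧ (powM invC 2).beq oneM = true ∧
    (powM invC 1).beq oneM = false := by
  decide +kernel

attribute [local irreducible] mulM okM val oneM powM repC gC

/-- The involution in J1. -/
noncomputable def invE : grpJ1 := ⟨val invC, mem_repC 18⟩

/-- The element of order three. -/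
noncomputable def icoAE : grpJ1 := ⟨val icoA, mem_gC 390 16⟩

/-- The element of order five. -/
noncomputable def icoBE : grpJ1 := ⟨val icoB, mem_gC 1476 27⟩

theorem ok_invC : okM invC = true := ok_repC 18

theorem ok_ico : okM icoA = true ∧ okM icoB = true := by
  constructor <;>
  · simp only [icoA, icoB]
    unfold gC
    exact ok_mul' _ _ (ok_repC _) (ok_hC _)

theorem ico_rels : Commute icoAE invE ∧ Commute icoBE invE ∧ icoAE ^ 3 = 1 ∧ icoBE ^ 5 = 1 ∧
    (icoAE * icoBE) ^ 2 = 1 ∧ icoAE ≠ 1 ∧ orderOf invE = 2 := by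
  obtain ⟨ea, eb, a3, b5, ab, a1, t2, t1⟩ := ico_checks
  simp only [Nat.beq_eq] at ea eb a3 b5 ab t2
  obtain ⟨oa, ob⟩ := ok_ico
  have ot := ok_invC
  refine ⟨Subtype.ext ?_, Subtype.ext ?_, Subtype.ext ?_, Subtype.ext ?_, Subtype.ext ?_, ?_, ?_⟩
  · simp only [icoAE, invE, Subgroup.coe_mul, ← val_mul' _ _ oa ot, ← val_mul' _ _ ot oa, ea]
  · simp only [icoBE, invE, Subgroup.coe_mul, ← val_mul' _ _ ob ot, ← val_mul' _ _ ot ob, eb]
  · simp only [icoAE, Subgroup.coe_pow, ← (val_powM oa 3).2, a3, val_one', Subgroup.coe_one]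
  · simp only [icoBE, Subgroup.coe_pow, ← (val_powM ob 5).2, b5, val_one', Subgroup.coe_one]
  · simp only [icoAE, icoBE, Subgroup.coe_pow, Subgroup.coe_mul, ← val_mul' _ _ oa ob,
      ← (val_powM (ok_mul' _ _ oa ob) 2).2, ab, val_one', Subgroup.coe_one]
  · intro h
    refine Nat.ne_of_beq_eq_false a1 (canon_inj (canon_powM oa 1) canon_one ?_)
    rw [(val_powM oa 1).2, pow_one, val_one']
    exact congrArg Subtype.val h
  · haveI : Fact (Nat.Prime 2) := ⟨Nat.prime_two⟩
    refine orderOf_eq_prime (Subtype.ext ?_) fun h => ?_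
    · simp only [invE, Subgroup.coe_pow, ← (val_powM ot 2).2, t2, val_one', Subgroup.coe_one]
    · refine Nat.ne_of_beq_eq_false t1 (canon_inj (canon_powM ot 1) canon_one ?_)
      rw [(val_powM ot 1).2, pow_one, val_one']
      exact congrArg Subtype.val h

/-- A homomorphism from A5 realising a non-trivial pair satisfying its presentation. -/
theorem exists_hom_alt_five {M : Type*} [Group M] {x y : M} (hx : x ^ 3 = 1) (hy : y ^ 5 = 1)
    (hxy : (x * y) ^ 2 = 1) (hne : x ≠ 1) :
    ∃ ψ : alternatingGroup (Fin 5) →* M, Function.Injective ψ ∧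
      ψ.range = Subgroup.closure {x, y} := by
  classical
  let p : alternatingGroup (Fin 5) :=
    ⟨List.formPerm [0, 1, 2], Equiv.Perm.mem_alternatingGroup.2 (by decide +kernel)⟩
  let q : alternatingGroup (Fin 5) :=
    ⟨List.formPerm [0, 2, 3, 1, 4], Equiv.Perm.mem_alternatingGroup.2 (by decide +kernel)⟩
  have hp3 : p ^ 3 = 1 := by decide +kernel
  have hq5 : q ^ 5 = 1 := by decide +kernel
  have hpq : (p * q) ^ 2 = 1 := by decide +kernel
  set K : Subgroup (alternatingGroup (Fin 5) × M) := Subgroup.closure {(p, x), (q, y)} with hK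
  let X : K := ⟨(p, x), Subgroup.subset_closure (Or.inl rfl)⟩
  let Y : K := ⟨(q, y), Subgroup.subset_closure (Or.inr rfl)⟩
  have hgen : Subgroup.closure ({X, Y} : Set K) = ⊤ := by
    apply Subgroup.map_injective K.subtype_injective
    rw [MonoidHom.map_closure, ← MonoidHom.range_eq_map, Subgroup.range_subtype, Set.image_pair]
    rfl
  obtain ⟨hfin, hcard⟩ := CfsgLib.Recognition.card_le_sixty hgen
    (Subtype.ext (Prod.ext hp3 hx)) (Subtype.ext (Prod.ext hq5 hy))
    (Subtype.ext (Prod.ext hpq hxy))
  let π : K →* alternatingGroup (Fin 5) := (MonoidHom.fst _ _).comp K.subtype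
  have hA : Nat.card (alternatingGroup (Fin 5)) = 60 := by
    rw [nat_card_alternatingGroup, Nat.card_fin]; rfl
  have hsimp : IsSimpleGroup (alternatingGroup (Fin 5)) := inferInstance
  have hrange : π.range = ⊤ := by
    have hp : p ∈ π.range := ⟨X, rfl⟩
    have hq : q ∈ π.range := ⟨Y, rfl⟩
    have d3 : 3 ∣ Nat.card π.range := by
      have h := Subgroup.orderOf_dvd_natCard π.range hp
      rwa [show orderOf p = 3 from orderOf_eq_prime (hp := ⟨by norm_num⟩) hp3 (by decide +kernel)] at h
    have d5 : 5 ∣ Nat.card π.range := by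
      have h := Subgroup.orderOf_dvd_natCard π.range hq
      rwa [show orderOf q = 5 from orderOf_eq_prime (hp := ⟨by norm_num⟩) hq5 (by decide +kernel)] at h
    have d2 : 2 ∣ Nat.card π.range := by
      have h := Subgroup.orderOf_dvd_natCard π.range (π.range.mul_mem hp hq)
      rwa [show orderOf (p * q) = 2 from
        orderOf_eq_prime (hp := ⟨Nat.prime_two⟩) hpq (by decide +kernel)] at h
    have d30 : 30 ∣ Nat.card π.range :=
      (Nat.Coprime.mul_dvd_of_dvd_of_dvd (by norm_num : Nat.Coprime 6 5)
        (Nat.Coprime.mul_dvd_of_dvd_of_dvd (by norm_num : Nat.Coprime 2 3) d2 d3) d5 :)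
    have hidx := π.range.card_mul_index
    rw [hA] at hidx
    obtain ⟨c, hc⟩ := d30
    rw [hc, mul_assoc] at hidx
    have hc2 : c * π.range.index = 2 := by omega
    rcases (Nat.dvd_prime Nat.prime_two).1 (Dvd.intro_left _ hc2) with h | h
    · exact Subgroup.index_eq_one.1 h
    · rcases (Subgroup.normal_of_index_eq_two h).eq_bot_or_eq_top with e | e
      · rw [e, Subgroup.mem_bot] at hp
        exact absurd hp (by decide +kernel)
      · exact e
  have hπ : Function.Bijective π := by
    haveI := hfin
    refine (Nat.bijective_iff_surjective_and_card π).2 ⟨MonoidHom.range_eq_top.1 hrange, ?_⟩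
    have := Nat.card_le_card_of_surjective π (MonoidHom.range_eq_top.1 hrange)
    omega
  let e := MulEquiv.ofBijective π hπ
  let ψ : alternatingGroup (Fin 5) →* M :=
    ((MonoidHom.snd _ _).comp K.subtype).comp e.symm.toMonoidHom
  have hψp : ψ p = x := by
    show ((e.symm p : K) : alternatingGroup (Fin 5) × M).2 = x
    rw [show e.symm p = X from e.symm_apply_eq.2 rfl]
  have hψq : ψ q = y := by
    show ((e.symm q : K) : alternatingGroup (Fin 5) × M).2 = y
    rw [show e.symm q = Y from e.symm_apply_eq.2 rfl]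
  have hpqgen : Subgroup.closure ({p, q} : Set (alternatingGroup (Fin 5))) = ⊤ := by
    rw [← hrange, MonoidHom.range_eq_map, ← hgen, MonoidHom.map_closure, Set.image_pair]
    rfl
  refine ⟨ψ, ?_, ?_⟩
  · rw [← MonoidHom.ker_eq_bot_iff]
    rcases ψ.normal_ker.eq_bot_or_eq_top with h | h
    · exact h
    · exfalso
      apply hne
      rw [← hψp]
      exact MonoidHom.mem_ker.1 (h ▸ Subgroup.mem_top p)
  · rw [MonoidHom.range_eq_map, ← hpqgen, MonoidHom.map_closure, Set.image_pair, hψp, hψq]

theorem card_cent_invE_le : Nat.card (Subgroup.centralizer ({invE} : Set grpJ1)) ≤ 120 := by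
  have key : ∀ g : Subgroup.centralizer ({invE} : Set grpJ1),
      ((g : grpJ1) : GL (Fin 7) (ZMod 11)) * val invC = val invC * (g : grpJ1) := fun g =>
    congrArg Subtype.val (Subgroup.mem_centralizer_singleton_iff.1 g.2)
  refine le_trans (Nat.card_le_card_of_injective (fun g => ⟨g.1, key g⟩) ?_)
    (card_cent_le ok_invC (show countOk invC 120 = true from count_0))
  intro a b h
  exact Subtype.ext (by simpa using congrArg Subtype.val h)

theorem cent_invE : Nonempty (↥(Subgroup.centralizer ({invE} : Set grpJ1)) ≃*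
    Multiplicative (ZMod 2) × ↥(alternatingGroup (Fin 5))) := by
  classical
  obtain ⟨ca, cb, a3, b5, ab, a1, ht⟩ := ico_rels
  set C := Subgroup.centralizer ({invE} : Set grpJ1) with hC
  have hmem : ∀ g : grpJ1, Commute g invE → g ∈ C := fun g h =>
    Subgroup.mem_centralizer_singleton_iff.2 h
  obtain ⟨ψ, hψ, hr⟩ := exists_hom_alt_five a3 b5 ab a1
  have hψC : ∀ g, ψ g ∈ C := by
    intro g
    have : ψ.range ≤ C := by
      rw [hr, Subgroup.closure_le]
      rintro z (rfl | rfl)
      exacts [hmem _ ca, hmem _ cb]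
    exact this ⟨g, rfl⟩
  let ψ' : ↥(alternatingGroup (Fin 5)) →* C := ψ.codRestrict C hψC
  let tC : C := ⟨invE, hmem _ (Commute.refl _)⟩
  have hcomm : ∀ c : C, Commute tC c := fun c =>
    Subtype.ext (Subgroup.mem_centralizer_singleton_iff.1 c.2).symm
  have htC : orderOf tC = 2 := by rw [← Subgroup.orderOf_coe]; exact ht
  let τ : Multiplicative (ZMod 2) →* C :=
    { toFun := fun a => tC ^ (Multiplicative.toAdd a).val
      map_one' := by simp
      map_mul' := fun a b => by
        rw [toAdd_mul, ZMod.val_add, ← pow_add, ← pow_mod_orderOf tC (_ + _), htC] }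
  have hτ : ∀ a, τ a = 1 ∨ τ a = tC := by
    intro a
    show tC ^ (Multiplicative.toAdd a).val = 1 ∨ tC ^ (Multiplicative.toAdd a).val = tC
    have h := ZMod.val_lt (Multiplicative.toAdd a)
    rcases Nat.eq_zero_or_pos (Multiplicative.toAdd a).val with e | e
    · left; rw [e, pow_zero]
    · right; rw [show (Multiplicative.toAdd a).val = 1 by omega, pow_one]
  have hτ1 : τ (Multiplicative.ofAdd 1) = tC := by
    show tC ^ (1 : ZMod 2).val = tC
    rw [ZMod.val_one, pow_one]
  let φ : Multiplicative (ZMod 2) × ↥(alternatingGroup (Fin 5)) →* C :=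
    MonoidHom.noncommCoprod τ ψ' fun a g => by
      rcases hτ a with h | h <;> rw [h]
      · exact Commute.one_left _
      · exact hcomm _
  have hcent : ∀ g : alternatingGroup (Fin 5), (∀ h, Commute g h) → g = 1 := by
    intro g hg
    have hz : g ∈ Subgroup.center ↥(alternatingGroup (Fin 5)) :=
      Subgroup.mem_center_iff.2 fun h => (hg h).symm
    rcases (inferInstance : (Subgroup.center ↥(alternatingGroup (Fin 5))).Normal).eq_bot_or_eq_top
      with e | e
    · rwa [e, Subgroup.mem_bot] at hz
    · exfalso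
      have h1 : (⟨List.formPerm [0, 1, 2], Equiv.Perm.mem_alternatingGroup.2 (by decide +kernel)⟩ :
          alternatingGroup (Fin 5)) ∈ Subgroup.center _ := e ▸ Subgroup.mem_top _
      exact absurd (Subgroup.mem_center_iff.1 h1
        ⟨List.formPerm [0, 2, 3, 1, 4], Equiv.Perm.mem_alternatingGroup.2 (by decide +kernel)⟩)
        (by decide +kernel)
  have hinj : Function.Injective φ := by
    rw [← MonoidHom.ker_eq_bot_iff, eq_bot_iff]
    rintro ⟨a, g⟩ h
    rw [MonoidHom.mem_ker] at h
    have h' : τ a * ψ' g = 1 := h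
    have hg : g = 1 := by
      refine hcent g fun k => hψ ?_
      rw [map_mul, map_mul]
      have e : ψ' g = (τ a)⁻¹ := eq_inv_of_mul_eq_one_right h'
      have : Commute (ψ' g) (ψ' k) := by
        rw [e]
        rcases hτ a with h2 | h2 <;> rw [h2]
        · simp
        · exact (hcomm _).inv_left
      exact congrArg Subtype.val this
    subst hg
    rw [map_one, mul_one] at h'
    rw [Subgroup.mem_bot, Prod.mk_eq_one]
    refine ⟨?_, rfl⟩
    rcases (by decide : ∀ b : ZMod 2, b = 0 ∨ b = 1) (Multiplicative.toAdd a) with e | e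
    · exact Multiplicative.toAdd.injective e
    · exfalso
      have : a = Multiplicative.ofAdd 1 := Multiplicative.toAdd.injective e
      rw [this, hτ1] at h'
      rw [h', orderOf_one] at htC
      omega
  refine ⟨(MulEquiv.ofBijective φ ((Nat.bijective_iff_injective_and_card φ).2 ⟨hinj, ?_⟩)).symm⟩
  have h1 := Nat.card_le_card_of_injective φ hinj
  have h2 : Nat.card (Multiplicative (ZMod 2) × ↥(alternatingGroup (Fin 5))) = 120 := by
    rw [Nat.card_prod, nat_card_alternatingGroup, Nat.card_fin,
      Nat.card_congr Multiplicative.toAdd, Nat.card_zmod]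
    rfl
  have h3 := card_cent_invE_le
  rw [h2] at h1 ⊢
  exact le_antisymm h1 h3

end CfsgLib.J1Classes
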