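import Cfsg.Agent.Lib.J1Classes.Rigid

/-!
J1 has no outer automorphisms.
-/

set_option autoImplicit false
set_option maxRecDepth 100000

namespace CfsgLib.J1Classes

open CfsgLib.Golay CfsgLib.Golay.J1
open scoped MatrixGroups Pointwise

attribute [local irreducible] mulM okM val oneM powM repC gC invAt sevC genC wordC invC
  clsC conjC

theorem coe_sevE : ((sevE : grpJ1) : GL (Fin 7) (ZMod 11)) = val sevC :=
  congrArg Subtype.val cls_zero_ten.1

theorem coe_genE : ((genE : grpJ1) : GL (Fin 7) (ZMod 11)) = val genC := by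
  rw [← genE_code]; exact coe_invJ _

theorem ok_genC : okM genC = true := by
  rw [← genE_code]; exact (inv_facts _).1.1

theorem order_genE : orderOf genE = 2 := by
  obtain ⟨c, hc⟩ := isConj_iff.1 (isConj_invJ 376)
  rw [genE, ← hc, ← MulAut.conj_apply, (MulAut.conj c).orderOf_eq]
  exact ico_rels.2.2.2.2.2.2

theorem word_genE : (sevE * genE * (sevE ^ 3 * genE)) ^ 2 = 1 := by
  apply Subtype.ext
  obtain ⟨-, -, -, hw, -⟩ := gen_checks
  obtain ⟨hok, hv⟩ := val_wordC ok_genC
  have e := (val_powM hok 2).2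
  rw [Nat.eq_of_beq_eq_true hw, hv, val_one'] at e
  simp only [Subgroup.coe_pow, Subgroup.coe_mul, Subgroup.coe_one, coe_sevE, coe_genE]
  exact e.symm

theorem word_coe (a b : grpJ1) (h : (a * b * (a ^ 3 * b)) ^ 2 = 1) :
    ((a : GL (Fin 7) (ZMod 11)) * b * ((a : GL (Fin 7) (ZMod 11)) ^ 3 * b)) ^ 2 = 1 := by
  simpa using congrArg Subtype.val h

theorem aut_inner (φ : MulAut grpJ1) : φ ∈ (MulAut.conj : grpJ1 →* MulAut grpJ1).range := by
  have h7 : orderOf sevE = 7 := (cls_facts 0).2.1.trans gen_checks.2.2.2.2.1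
  have hg2 := order_genE
  have hx : IsConj sevE (φ sevE) := by
    rcases exists_cls (φ sevE) with h | ⟨k, hk⟩
    · have := φ.orderOf_eq sevE
      rw [h, orderOf_one, h7] at this
      omega
    · obtain ⟨c, hc⟩ := isConj_iff.1 hk
      have h := (MulAut.conj c).orderOf_eq (clsElt k)
      rw [MulAut.conj_apply, hc, φ.orderOf_eq, h7, (cls_facts k).2.1] at h
      rw [(gen_checks.2.2.2.2.2.2.2.2 k).1 h.symm] at hk
      exact hk
  obtain ⟨c, hc⟩ := isConj_iff.1 hx
  set ψ : MulAut grpJ1 := (MulAut.conj c)⁻¹ * φ with hψ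
  have hψx : ψ sevE = sevE := by
    rw [hψ, MulAut.mul_apply, ← hc, ← MulAut.conj_apply, MulAut.inv_apply_self]
  have hψs : orderOf (ψ genE) = 2 := by rw [ψ.orderOf_eq, hg2]
  obtain ⟨i, hi, hie⟩ := exists_invJ hψs
  have ho : okM sevC = true := by unfold sevC; exact ok_repC _
  have hwi : powM (wordC (invAt i)) 2 = oneM := by
    obtain ⟨hok, hv⟩ := val_wordC (inv_facts i).1.1
    refine canon_inj (canon_powM hok 2) canon_one ?_
    rw [(val_powM hok 2).2, hv, val_one']
    have h := congrArg ψ word_genE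
    simp only [map_pow, map_mul, map_one, hψx, ← hie] at h
    rw [← coe_sevE, ← coe_invJ]
    exact word_coe _ _ h
  obtain ⟨m, -, hm⟩ := surv_ok hi hwi
  have hgi : invJ i = sevE ^ m * genE * (sevE ^ m)⁻¹ := by
    apply Subtype.ext
    simp only [Subgroup.coe_mul, Subgroup.coe_inv, Subgroup.coe_pow, coe_sevE, coe_genE, coe_invJ]
    rw [hm, (ok_conjC (val_powM ho m).1 ok_genC).2, (val_powM ho m).2]
  have hfin : ψ = MulAut.conj (sevE ^ m) := by
    refine MulEquiv.toMonoidHom_injective (MonoidHom.eq_of_eqOn_dense gen_top ?_)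
    rintro z (rfl | rfl)
    · show ψ sevE = MulAut.conj (sevE ^ m) sevE
      rw [hψx, MulAut.conj_apply, ← ((Commute.self_pow sevE m)).eq, mul_inv_cancel_right]
    · show ψ genE = MulAut.conj (sevE ^ m) genE
      rw [← hie, hgi, MulAut.conj_apply]
  exact ⟨c * sevE ^ m, by rw [map_mul, ← hfin, hψ, mul_inv_cancel_left]⟩

theorem card_out : Nat.card (MulAut grpJ1 ⧸ (MulAut.conj : grpJ1 →* MulAut grpJ1).range) = 1 := by
  refine Nat.card_eq_one_iff_unique.2 ⟨⟨fun a b => ?_⟩, ⟨QuotientGroup.mk 1⟩⟩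
  induction a using QuotientGroup.induction_on with
  | H a =>
    induction b using QuotientGroup.induction_on with
    | H b => exact QuotientGroup.eq.2 (aut_inner _)

end CfsgLib.J1Classes
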