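import Cfsg.Agent.Lib.J1Classes.Classes
import Cfsg.Prelude.Def_Spor_J1
import Cfsg.Agent.Lib.Spectrum.Frobenius

/-!
The fourth power of J1 has the element orders of J1^3 × (7^N : 3) for every N.
-/

set_option autoImplicit false
set_option maxRecDepth 100000

namespace CfsgLib.J1Classes

open CfsgLib.Golay CfsgLib.Spectrum

theorem spor_eq : Cfsg.Spor.J1 = J1.grpJ1 := by
  obtain ⟨-, -, -, -, okX, okY⟩ := J1.slp_ok
  rw [J1.grpJ1_eq, Cfsg.Spor.J1]
  congr 2
  · exact Units.ext (by rw [J1.val_coe okX, J1.gens_coe.1]; rfl)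
  · congr 1
    exact Units.ext (by rw [J1.val_coe okY, J1.gens_coe.2]; rfl)

/-- The element orders of J1. -/
def ordList : List ℕ := [1, 2, 3, 5, 6, 7, 10, 11, 15, 19]

theorem ordList_occur : ∀ a ∈ ordList, a = 1 ∨ ∃ k : Fin 14, clsOrd k = a := by decide +kernel

theorem range_J1 : Set.range (orderOf : ↥Cfsg.Spor.J1 → ℕ) = {a | a ∈ ordList} := by
  rw [spor_eq]
  ext a
  constructor
  · rintro ⟨g, rfl⟩; exact orderOf_mem g
  · intro ha
    rcases ordList_occur a ha with rfl | ⟨k, rfl⟩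
    · exact ⟨1, orderOf_one⟩
    · exact ⟨clsElt k, (cls_facts k).2.1⟩

instance instFactPrimeSevenJ1 : Fact (Nat.Prime 7) := ⟨by norm_num⟩

/-- The acting group of order three. -/
abbrev cThree : Subgroup (ZMod 7)ˣ := Subgroup.zpowers (Units.mk ((2 : ZMod 7)) 4 (by decide) (by decide))

/-- `7^N : 3`. -/
abbrev wGroup (N : ℕ) : Type :=
  (Fin N → Multiplicative (ZMod 7)) ⋊[powAct (mulAct (K := ZMod 7) cThree) N] cThree

theorem card_cThree : Nat.card cThree = 3 := by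
  rw [Nat.card_zpowers]
  exact orderOf_eq_prime (by decide) (by decide)

theorem range_wGroup (N : ℕ) (hN : 0 < N) :
    Set.range (orderOf : wGroup N → ℕ) = {a | a ∈ [1, 3, 7]} := by
  haveI : Fact (Nat.Prime 3) := ⟨by norm_num⟩
  ext a
  constructor
  · rintro ⟨x, rfl⟩
    by_cases hx : x.right = 1
    · have hx' : x = SemidirectProduct.inl x.left := by ext <;> simp [hx]
      rw [hx', orderOf_injective _ SemidirectProduct.inl_injective]
      have h7 : x.left ^ 7 = 1 := funext fun i => pow_char_multiplicative 7 _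
      rcases (Nat.dvd_prime (p := 7) (by norm_num)).1 (orderOf_dvd_of_pow_eq_one h7) with e | e <;>
        simp [e]
    · rw [orderOf_eq_of_fixedPointFree x (pow_fixedPointFree (mulAct_fixedPointFree hx))]
      have h3 : orderOf x.right ∣ 3 := card_cThree ▸ orderOf_dvd_natCard x.right
      rcases (Nat.dvd_prime (p := 3) (by norm_num)).1 h3 with e | e <;> simp [e]
  · intro ha
    simp only [List.mem_cons, List.not_mem_nil, or_false, Set.mem_ofPred_eq] at ha
    rcases ha with rfl | rfl | rfl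
    · exact ⟨1, orderOf_one⟩
    · obtain ⟨c, hc⟩ := exists_prime_orderOf_dvd_card' 3 (G := cThree) (by rw [card_cThree])
      exact ⟨SemidirectProduct.inr c,
        (orderOf_injective _ SemidirectProduct.inr_injective c).trans hc⟩
    · refine ⟨SemidirectProduct.inl (fun _ => Multiplicative.ofAdd 1), ?_⟩
      rw [orderOf_injective _ SemidirectProduct.inl_injective]
      refine orderOf_eq_prime (funext fun i => pow_char_multiplicative 7 _) fun h => ?_
      exact one_ne_zero (α := ZMod 7) (congrArg Multiplicative.toAdd (congrFun h ⟨0, hN⟩))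

/-- Least common multiples of four orders, in two bunches. -/
def lcmsOf (l m : List ℕ) : List ℕ := l.flatMap fun a => m.map fun b => Nat.lcm a b

theorem mem_lcmsOf {l m : List ℕ} {n : ℕ} :
    n ∈ lcmsOf l m ↔ ∃ a ∈ l, ∃ b ∈ m, Nat.lcm a b = n := by
  simp [lcmsOf]

theorem range_prod {A B : Type*} [Monoid A] [Monoid B] {l m : List ℕ}
    (hA : Set.range (orderOf : A → ℕ) = {a | a ∈ l})
    (hB : Set.range (orderOf : B → ℕ) = {a | a ∈ m}) :
    Set.range (orderOf : A × B → ℕ) = {a | a ∈ lcmsOf l m} := by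
  ext n
  constructor
  · rintro ⟨x, rfl⟩
    refine mem_lcmsOf.2 ⟨orderOf x.1, ?_, orderOf x.2, ?_, (Prod.orderOf x).symm⟩
    · exact hA.subset ⟨_, rfl⟩
    · exact hB.subset ⟨_, rfl⟩
  · intro hn
    obtain ⟨a, ha, b, hb, rfl⟩ := mem_lcmsOf.1 hn
    obtain ⟨x, rfl⟩ := hA.symm.subset ha
    obtain ⟨y, rfl⟩ := hB.symm.subset hb
    exact ⟨(x, y), Prod.orderOf (x, y)⟩

theorem lcms_eq : ∀ n ∈ lcmsOf ordList (lcmsOf ordList (lcmsOf ordList [1, 3, 7])),
    n ∣ 43890 ∧ n ≠ 43890 := by decide +kernel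

theorem lcms_eq' : ∀ n ∈ lcmsOf ordList (lcmsOf ordList (lcmsOf ordList ordList)),
    n ∣ 43890 ∧ n ≠ 43890 := by decide +kernel

theorem proper_dvd {n : ℕ} (h : n ∣ 43890) (hne : n ≠ 43890) :
    ∃ p ∈ [2, 3, 5, 7, 11, 19], n ∣ 43890 / p := by
  obtain ⟨m, hm⟩ := h
  have hm1 : m ≠ 1 := fun e => hne (by rw [hm, e, mul_one])
  obtain ⟨p, hp, hpm⟩ := Nat.exists_prime_and_dvd hm1
  have hd : p ∣ 2 * 3 * 5 * 7 * 11 * 19 := hpm.trans ⟨n, by rw [show (2 * 3 * 5 * 7 * 11 * 19 : ℕ) = 43890 by norm_num, hm, mul_comm]⟩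
  refine ⟨p, ?_, ?_⟩
  · simp only [Nat.Prime.dvd_mul hp, Nat.prime_dvd_prime_iff_eq hp Nat.prime_two,
      Nat.prime_dvd_prime_iff_eq hp Nat.prime_three,
      Nat.prime_dvd_prime_iff_eq hp (show Nat.Prime 5 by norm_num),
      Nat.prime_dvd_prime_iff_eq hp (show Nat.Prime 7 by norm_num),
      Nat.prime_dvd_prime_iff_eq hp (show Nat.Prime 11 by norm_num),
      Nat.prime_dvd_prime_iff_eq hp (show Nat.Prime 19 by norm_num)] at hd
    simp only [List.mem_cons, List.not_mem_nil, or_false]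
    tauto
  · obtain ⟨r, rfl⟩ := hpm
    exact ⟨r, by rw [hm, ← mul_assoc, mul_comm n p, mul_assoc, Nat.mul_div_cancel_left _ hp.pos]⟩

theorem eq_of_occur {A : Type*} [Monoid A] {l : List ℕ}
    (hA : Set.range (orderOf : A → ℕ) = {a | a ∈ l}) (hfin : ∀ a : A, 0 < orderOf a)
    (h1 : ∀ n ∈ l, n ∣ 43890 ∧ n ≠ 43890)
    (h2 : ∀ n ∈ [21945, 14630, 8778, 6270, 3990, 2310], n ∈ l) :
    Set.range (orderOf : A → ℕ) = {n | n ∣ 43890 ∧ n ≠ 43890} := by
  ext n
  constructor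
  · intro hn; rw [hA] at hn; exact h1 n hn
  · rintro ⟨hd, hne⟩
    obtain ⟨p, hp, hpd⟩ := proper_dvd hd hne
    have hq : 43890 / p ∈ [21945, 14630, 8778, 6270, 3990, 2310] := by
      clear hpd; revert p; decide +kernel
    obtain ⟨x, hx⟩ := hA.symm.subset (h2 _ hq)
    exact ⟨x ^ (orderOf x / n), by rw [orderOf_pow_orderOf_div (hfin x).ne' (hx ▸ hpd)]⟩

instance instFiniteSporJ1 : Finite ↥Cfsg.Spor.J1 := by
  rw [spor_eq]; infer_instance

set_option maxHeartbeats 800000 in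
theorem range_J1_four :
    Set.range (orderOf : ↥Cfsg.Spor.J1 × ↥Cfsg.Spor.J1 × ↥Cfsg.Spor.J1 × ↥Cfsg.Spor.J1 → ℕ) =
      {n | n ∣ 43890 ∧ n ≠ 43890} :=
  eq_of_occur (range_prod range_J1 (range_prod range_J1 (range_prod range_J1 range_J1)))
    (fun a => orderOf_pos a) lcms_eq' (by decide +kernel)

theorem range_twin (N : ℕ) (hN : 0 < N) :
    Set.range (orderOf : ↥Cfsg.Spor.J1 × ↥Cfsg.Spor.J1 × ↥Cfsg.Spor.J1 × wGroup N → ℕ) =
      {n | n ∣ 43890 ∧ n ≠ 43890} :=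
  eq_of_occur (range_prod range_J1 (range_prod range_J1 (range_prod range_J1 (range_wGroup N hN))))
    (fun a => orderOf_pos a) lcms_eq (by decide +kernel)

theorem exists_large_twin (N : ℕ) : ∃ (H : Type) (_ : Group H) (_ : Fintype H),
    N < Fintype.card H ∧ Set.range (orderOf : H → ℕ) = Set.range (orderOf :
      ↥Cfsg.Spor.J1 × ↥Cfsg.Spor.J1 × ↥Cfsg.Spor.J1 × ↥Cfsg.Spor.J1 → ℕ) := by
  obtain ⟨H, i1, i2, ⟨e⟩⟩ := exists_small_equiv
    (↥Cfsg.Spor.J1 × ↥Cfsg.Spor.J1 × ↥Cfsg.Spor.J1 × wGroup (N + 1))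
  refine ⟨H, i1, i2, ?_, ?_⟩
  · rw [← Nat.card_eq_fintype_card, Nat.card_congr e.toEquiv]
    have h := lt_card_pow_semidirect (φ := mulAct (K := ZMod 7) cThree) (N + 1)
    have hJ : 0 < Nat.card ↥Cfsg.Spor.J1 := Nat.card_pos
    simp only [Nat.card_prod]
    refine lt_of_lt_of_le (lt_of_lt_of_le (Nat.lt_succ_self N) h.le) ?_
    exact (Nat.le_mul_of_pos_left _ hJ).trans ((Nat.le_mul_of_pos_left _ hJ).trans
      (Nat.le_mul_of_pos_left _ hJ))
  · rw [range_orderOf_congr e, range_twin (N + 1) (Nat.succ_pos N), range_J1_four]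

end CfsgLib.J1Classes
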