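import Cfsg.Agent.Lib.J1Classes.Involution
import Cfsg.Agent.Lib.J1Classes.InvData

/-!
Kernel checks on the 1463 involutions of J1: the pair (element of order seven, involution) is
rigid.
-/

set_option autoImplicit false
set_option maxRecDepth 100000

namespace CfsgLib.J1Classes

open CfsgLib.Golay CfsgLib.Golay.J1
open scoped MatrixGroups Pointwise

/-- The conjugator indices. -/
def invPair (i : ℕ) : ℕ × ℕ := look invIdx i (0, 0)

/-- The involutions. -/
def invAt (i : ℕ) : ℕ := conjC (gC (invPair i).1 (invPair i).2) invC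

/-- The element of order seven. -/
def sevC : ℕ := repC 1

/-- The second generator. -/
def genC : ℕ := invAt 376

/-- The test word. -/
def wordC (s : ℕ) : ℕ := mulM (mulM sevC s) (mulM (powM sevC 3) s)

/-- Increasing codes on a block. -/
def incPart (k : ℕ) : Bool :=
  (List.range 209).all fun i => !(209 * k + i).blt 1462 ||
    (invAt (209 * k + i)).blt (invAt (209 * k + i + 1))

/-- The survivors of the test. -/
def survivors : List ℕ := (List.range 7).map fun m => conjC (powM sevC m) genC

/-- The test on a block. -/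
def survPart (k : ℕ) : Bool :=
  (List.range 209).all fun i => !(powM (wordC (invAt (209 * k + i))) 2).beq oneM ||
    survivors.any fun z => z.beq (invAt (209 * k + i))

theorem inc_0 : incPart 0 = true := by decide +kernel
theorem inc_1 : incPart 1 = true := by decide +kernel
theorem inc_2 : incPart 2 = true := by decide +kernel
theorem inc_3 : incPart 3 = true := by decide +kernel
theorem inc_4 : incPart 4 = true := by decide +kernel
theorem inc_5 : incPart 5 = true := by decide +kernel
theorem inc_6 : incPart 6 = true := by decide +kernel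
theorem surv_0 : survPart 0 = true := by decide +kernel
theorem surv_1 : survPart 1 = true := by decide +kernel
theorem surv_2 : survPart 2 = true := by decide +kernel
theorem surv_3 : survPart 3 = true := by decide +kernel
theorem surv_4 : survPart 4 = true := by decide +kernel
theorem surv_5 : survPart 5 = true := by decide +kernel
theorem surv_6 : survPart 6 = true := by decide +kernel

theorem gen_checks : Bsgs.slpCheck ops [sevC, genC] outSlp = true ∧
    ([sevC, genC] ++ outSlp.map (·.1)).contains codeX = true ∧
    ([sevC, genC] ++ outSlp.map (·.1)).contains codeY = true ∧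
    (powM (wordC genC) 2).beq oneM = true ∧ clsOrd 0 = 7 ∧ clsOrd 10 = 2 ∧
    (clsC 0).beq (powM sevC 1) = true ∧ (clsC 10).beq (powM invC 1) = true ∧
    (∀ k : Fin 14, (clsOrd k = 7 → k = 0) ∧ (clsOrd k = 2 → k = 10)) := by
  refine ⟨?_, ?_, ?_, ?_, ?_, ?_, ?_, ?_, ?_⟩ <;> decide +kernel

attribute [local irreducible] mulM okM val oneM powM repC gC invAt sevC genC wordC invC
  clsC conjC

theorem inc_ok {i : ℕ} (hi : i < 1462) : invAt i < invAt (i + 1) := by
  have key : ∀ k, k < 7 → incPart k = true := by
    intro k hk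
    interval_cases k
    exacts [inc_0, inc_1, inc_2, inc_3, inc_4, inc_5, inc_6]
  have h := key (i / 209) (by omega)
  simp only [incPart, List.all_eq_true, List.mem_range, Bool.or_eq_true, Bool.not_eq_true',
    Nat.blt_eq] at h
  have h2 := h (i % 209) (Nat.mod_lt _ (by norm_num))
  rw [Nat.div_add_mod] at h2
  rcases h2 with h2 | h2
  · have : Nat.blt i 1462 = true := by simpa using hi
    rw [this] at h2; simp at h2
  · exact h2

theorem surv_ok {i : ℕ} (hi : i < 1463) (h : powM (wordC (invAt i)) 2 = oneM) :
    ∃ m < 7, invAt i = conjC (powM sevC m) genC := by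
  have key : ∀ k, k < 7 → survPart k = true := by
    intro k hk
    interval_cases k
    exacts [surv_0, surv_1, surv_2, surv_3, surv_4, surv_5, surv_6]
  have h1 := key (i / 209) (by omega)
  simp only [survPart, List.all_eq_true, List.mem_range, Bool.or_eq_true, Bool.not_eq_true',
    List.any_eq_true] at h1
  have h2 := h1 (i % 209) (Nat.mod_lt _ (by norm_num))
  rw [Nat.div_add_mod] at h2
  rcases h2 with h2 | ⟨z, hz, hz2⟩
  · exact absurd h (Nat.ne_of_beq_eq_false h2)
  · simp only [survivors, List.mem_map, List.mem_range] at hz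
    obtain ⟨m, hm, rfl⟩ := hz
    exact ⟨m, hm, (Nat.eq_of_beq_eq_true hz2).symm⟩

theorem inv_facts (i : ℕ) : Canon (invAt i) ∧ val (invAt i) =
    val (gC (invPair i).1 (invPair i).2) * val invC * (val (gC (invPair i).1 (invPair i).2))⁻¹ := by
  have hg : okM (gC (invPair i).1 (invPair i).2) = true := by
    unfold gC; exact ok_mul' _ _ (ok_repC _) (ok_hC _)
  unfold invAt
  exact ok_conjC hg ok_invC

/-- The involutions as elements of J1. -/
noncomputable def invJ (i : ℕ) : grpJ1 :=
  ⟨val (invAt i), by
    rw [(inv_facts i).2]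
    exact grpJ1.mul_mem (grpJ1.mul_mem (mem_gC _ _) invE.2) (grpJ1.inv_mem (mem_gC _ _))⟩

theorem invJ_inj {i j : ℕ} (hi : i < 1463) (hj : j < 1463) (h : invJ i = invJ j) : i = j := by
  have mono : ∀ a b, a < b → b < 1463 → invAt a < invAt b := by
    intro a b hab hb
    induction hab with
    | refl => exact inc_ok (by omega)
    | @step m hm ih => exact (ih (by omega)).trans (inc_ok (by omega))
  have e : invAt i = invAt j := canon_inj (inv_facts i).1 (inv_facts j).1 (congrArg Subtype.val h)
  rcases lt_trichotomy i j with h1 | h1 | h1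
  · exact absurd e (mono i j h1 hj).ne
  · exact h1
  · exact absurd e (mono j i h1 hi).ne'

theorem isConj_invJ (i : ℕ) : IsConj invE (invJ i) :=
  isConj_iff.2 ⟨⟨_, mem_gC (invPair i).1 (invPair i).2⟩, Subtype.ext (inv_facts i).2.symm⟩

theorem cls_zero_ten : clsElt 0 = ⟨val sevC, by unfold sevC; exact mem_repC _⟩ ∧
    clsElt 10 = invE := by
  obtain ⟨-, -, -, -, -, -, h0, h10, -⟩ := gen_checks
  have ho : okM sevC = true := by unfold sevC; exact ok_repC _
  refine ⟨Subtype.ext ?_, Subtype.ext ?_⟩
  · show val (clsC 0) = val sevC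
    rw [Nat.eq_of_beq_eq_true h0, (val_powM ho 1).2, pow_one]
  · show val (clsC 10) = val invC
    rw [Nat.eq_of_beq_eq_true h10, (val_powM ok_invC 1).2, pow_one]

theorem exists_invJ {g : grpJ1} (hg : orderOf g = 2) : ∃ i < 1463, invJ i = g := by
  classical
  haveI : Fintype grpJ1 := Fintype.ofFinite _
  have hconj : IsConj invE g := by
    rcases exists_cls g with rfl | ⟨k, hk⟩
    · rw [orderOf_one] at hg; omega
    · obtain ⟨c, hc⟩ := isConj_iff.1 hk
      have h := (MulAut.conj c).orderOf_eq (clsElt k)
      rw [MulAut.conj_apply, hc, hg, (cls_facts k).2.1] at h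
      rw [← cls_zero_ten.2, ← (gen_checks.2.2.2.2.2.2.2.2 k).2 h.symm]
      exact hk
  set X : Finset grpJ1 := Finset.univ.image fun y => y * invE * y⁻¹ with hX
  have hsub : (Finset.range 1463).image invJ ⊆ X := by
    intro z hz
    obtain ⟨i, -, rfl⟩ := Finset.mem_image.1 hz
    obtain ⟨c, hc⟩ := isConj_iff.1 (isConj_invJ i)
    exact Finset.mem_image.2 ⟨c, Finset.mem_univ _, hc⟩
  have hcent : 120 ≤ Nat.card (Subgroup.centralizer ({invE} : Set grpJ1)) := by
    obtain ⟨e⟩ := cent_invE
    rw [Nat.card_congr e.toEquiv, Nat.card_prod, nat_card_alternatingGroup, Nat.card_fin,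
      Nat.card_congr Multiplicative.toAdd, Nat.card_zmod]
    rfl
  have hle : 120 * X.card ≤ 175560 := by
    have h := Finset.mul_card_image_le_card (f := fun y : grpJ1 => y * invE * y⁻¹)
      (Finset.univ : Finset grpJ1) 120 ?_
    · rwa [Finset.card_univ, ← Nat.card_eq_fintype_card, card_grpJ1] at h
    · intro b hb
      obtain ⟨y0, -, rfl⟩ := Finset.mem_image.1 hb
      refine hcent.trans ?_
      rw [Nat.card_eq_fintype_card, ← Finset.card_univ]
      refine Finset.card_le_card_of_injOn (fun c => y0 * c.1) ?_ fun a _ b _ h =>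
        Subtype.ext (mul_left_cancel h)
      intro c _
      simp only [Finset.coe_filter, Finset.mem_univ, true_and, Set.mem_ofPred_eq]
      have hc := Subgroup.mem_centralizer_singleton_iff.1 c.2
      calc y0 * c.1 * invE * (y0 * c.1)⁻¹ = y0 * (c.1 * invE) * c.1⁻¹ * y0⁻¹ := by group
        _ = y0 * invE * y0⁻¹ := by rw [hc]; group
  have hcard : ((Finset.range 1463).image invJ).card = 1463 := by
    rw [Finset.card_image_of_injOn, Finset.card_range]
    intro i hi j hj h
    exact invJ_inj (Finset.mem_range.1 hi) (Finset.mem_range.1 hj) h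
  have heq : (Finset.range 1463).image invJ = X := Finset.eq_of_subset_of_card_le hsub (by omega)
  obtain ⟨c, hc⟩ := isConj_iff.1 hconj
  have hgX : g ∈ X := Finset.mem_image.2 ⟨c, Finset.mem_univ _, hc⟩
  rw [← heq, Finset.mem_image] at hgX
  obtain ⟨i, hi, h⟩ := hgX
  exact ⟨i, Finset.mem_range.1 hi, h⟩

theorem coe_invJ (i : ℕ) : ((invJ i : grpJ1) : GL (Fin 7) (ZMod 11)) = val (invAt i) := rfl

/-- The element of order seven in J1. -/
noncomputable def sevE : grpJ1 := clsElt 0

/-- The second generator in J1. -/
noncomputable def genE : grpJ1 := invJ 376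

theorem val_wordC {s : ℕ} (hs : okM s = true) : okM (wordC s) = true ∧
    val (wordC s) = val sevC * val s * (val sevC ^ 3 * val s) := by
  have ho : okM sevC = true := by unfold sevC; exact ok_repC _
  have h3 := val_powM ho 3
  have h1 := ok_mul' _ _ ho hs
  have h2 := ok_mul' _ _ h3.1 hs
  unfold wordC
  refine ⟨ok_mul' _ _ h1 h2, ?_⟩
  rw [val_mul' _ _ h1 h2, val_mul' _ _ ho hs, val_mul' _ _ h3.1 hs, h3.2]

theorem genE_code : invAt 376 = genC := by unfold genC; rfl

theorem gen_top : Subgroup.closure ({sevE, genE} : Set grpJ1) = ⊤ := by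
  apply Subgroup.map_injective grpJ1.subtype_injective
  rw [MonoidHom.map_closure, ← MonoidHom.range_eq_map, Subgroup.range_subtype, Set.image_pair]
  obtain ⟨hs, hX, hY, -⟩ := gen_checks
  set M : Subgroup (GL (Fin 7) (ZMod 11)) := Subgroup.closure {grpJ1.subtype sevE, grpJ1.subtype genE}
    with hM
  refine le_antisymm ?_ ?_
  · rw [Subgroup.closure_le]
    rintro z (rfl | rfl)
    exacts [sevE.2, genE.2]
  · have base : ∀ c ∈ [sevC, genC], ops.ok c = true ∧ ops.val c ∈ M := by
      intro c hc
      simp only [List.mem_cons, List.not_mem_nil, or_false] at hc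
      rcases hc with rfl | rfl
      · refine ⟨show okM sevC = true by unfold sevC; exact ok_repC _, ?_⟩
        have : (sevE : GL (Fin 7) (ZMod 11)) = val sevC := congrArg Subtype.val cls_zero_ten.1
        rw [ops_val, ← this]
        exact Subgroup.subset_closure (Or.inl rfl)
      · refine ⟨?_, ?_⟩
        · show okM genC = true
          rw [← genE_code]; exact (inv_facts 376).1.1
        · rw [ops_val, ← genE_code]
          exact Subgroup.subset_closure (Or.inr rfl)
    have hall := Bsgs.slp_sound ops M hs base
    simp only [List.contains_iff_mem] at hX hY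
    rw [grpJ1_eq, Subgroup.closure_le]
    rintro z (rfl | rfl)
    exacts [(hall _ hX).2, (hall _ hY).2]

end CfsgLib.J1Classes
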