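import Cfsg.Agent.Lib.Golay.J1

/-!
Element search in the Janko group J1 written as (transversal) × (point stabiliser): a kernel
computable upper bound for centraliser orders.
-/

set_option autoImplicit false
set_option maxRecDepth 100000

namespace CfsgLib.J1Classes

open CfsgLib.Golay CfsgLib.Golay.J1
open scoped MatrixGroups Pointwise

/-- A transversal element. -/
def repC (i : ℕ) : ℕ := look repsC i oneM

/-- An element of the point stabiliser. -/
def hC (j : ℕ) : ℕ := lvl1.reps.getD j oneM

/-- The general element. -/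
def gC (i j : ℕ) : ℕ := mulM (repC i) (hC j)

/-- Conjugation of codes. -/
def conjC (g x : ℕ) : ℕ := mulM (mulM g x) (trM g)

/-- The conjugates by the point stabiliser. -/
def conjTable (x : ℕ) : List ℕ := lvl1.reps.map fun h => conjC h x

/-- Conjugation by the inverse of a transversal element. -/
def backC (i x : ℕ) : ℕ := mulM (mulM (trM (repC i)) x) (repC i)

/-- The matches at one transversal element. -/
def matchAt (x i : ℕ) : ℕ := (conjTable x).countP fun z => z.beq (backC i x)

/-- The matches on a block. -/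
def matchPart (x k : ℕ) : ℕ := ((List.range 220).map fun i => matchAt x (220 * k + i)).sum

/-- The centraliser has at most `c` elements. -/
def countOk (x c : ℕ) : Bool := (((List.range 7).map fun k => matchPart x k).sum).ble c

/-- Canonical codes. -/
def Canon (A : ℕ) : Prop := okM A = true ∧ mulM A oneM = A

theorem ok_trM {A : ℕ} (h : okM A = true) : okM (trM A) = true := by
  obtain ⟨hs, ho⟩ := orth_of_ok h
  have hst := smallM_trM hs
  have h1 : smallM oneM = true := by decide +kernel
  simp only [okM, Bool.and_eq_true, Nat.beq_eq]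
  refine ⟨hst, ?_⟩
  have e : toMat (mulM (trM A) (trM (trM A))) = toMat oneM := by
    rw [toMat_mulM hst (smallM_trM hst), toMat_trM (trM A), toMat_trM, Matrix.transpose_transpose,
      toMat_one]
    exact mul_eq_one_comm.1 ho
  have h2 := smallM_mulM (trM A) (trM (trM A))
  rw [mulM_eq_packM (trM A), show oneM = packM (fun i => rowC oneM i) by decide +kernel]
  refine packM_congr fun i hi => ?_
  rw [← packV_slot (rowC_lt (mulM (trM A) (trM (trM A))) i), ← packV_slot (rowC_lt oneM i)]
  simp only [packV]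
  rw [code_ext h2 h1 e hi (by omega : 0 < 7), code_ext h2 h1 e hi (by omega : 1 < 7),
    code_ext h2 h1 e hi (by omega : 2 < 7), code_ext h2 h1 e hi (by omega : 3 < 7),
    code_ext h2 h1 e hi (by omega : 4 < 7), code_ext h2 h1 e hi (by omega : 5 < 7),
    code_ext h2 h1 e hi (by omega : 6 < 7)]

theorem val_trM {A : ℕ} (h : okM A = true) : val (trM A) = (val A)⁻¹ := by
  have e : mulM A (trM A) = oneM := by
    have := h
    simp only [okM, Bool.and_eq_true, Nat.beq_eq] at this
    exact this.2
  rw [eq_inv_iff_mul_eq_one]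
  have h1 := val_mul' _ _ h (ok_trM h)
  rw [e, val_one'] at h1
  exact mul_eq_one_comm.1 h1.symm

theorem toMat_inj_mul {a b c d : ℕ} (h : toMat (mulM a b) = toMat (mulM c d)) :
    mulM a b = mulM c d := by
  rw [mulM_eq_packM a b, mulM_eq_packM c d]
  refine packM_congr fun i hi => ?_
  rw [← packV_slot (rowC_lt (mulM a b) i), ← packV_slot (rowC_lt (mulM c d) i)]
  simp only [packV]
  have ha := smallM_mulM a b
  have hb := smallM_mulM c d
  rw [code_ext ha hb h hi (by omega : 0 < 7), code_ext ha hb h hi (by omega : 1 < 7),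
    code_ext ha hb h hi (by omega : 2 < 7), code_ext ha hb h hi (by omega : 3 < 7),
    code_ext ha hb h hi (by omega : 4 < 7), code_ext ha hb h hi (by omega : 5 < 7),
    code_ext ha hb h hi (by omega : 6 < 7)]

theorem canon_mulM {a b : ℕ} (ha : okM a = true) (hb : okM b = true) : Canon (mulM a b) := by
  have hab := ok_mul' _ _ ha hb
  refine ⟨hab, toMat_inj_mul ?_⟩
  have h1 : okM oneM = true := ok_one'
  rw [toMat_mulM (orth_of_ok hab).1 (orth_of_ok h1).1, toMat_one, mul_one]

theorem canon_one : Canon oneM := ⟨ok_one', by decide +kernel⟩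

theorem canon_inj {A B : ℕ} (hA : Canon A) (hB : Canon B) (h : val A = val B) : A = B := by
  rw [← hA.2, ← hB.2]
  have h1 := (orth_of_ok ok_one').1
  refine toMat_inj_mul ?_
  rw [toMat_mulM (orth_of_ok hA.1).1 h1, toMat_mulM (orth_of_ok hB.1).1 h1, ← val_coe hA.1,
    ← val_coe hB.1, h]

theorem canon_powM {A : ℕ} (h : okM A = true) : ∀ k, Canon (powM A k)
  | 0 => canon_one
  | k + 1 => canon_mulM h (val_powM h k).1

theorem ok_conjC {g x : ℕ} (hg : okM g = true) (hx : okM x = true) :
    Canon (conjC g x) ∧ val (conjC g x) = val g * val x * (val g)⁻¹ := by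
  have h1 := ok_mul' _ _ hg hx
  refine ⟨canon_mulM h1 (ok_trM hg), ?_⟩
  rw [conjC, val_mul' _ _ h1 (ok_trM hg), val_mul' _ _ hg hx, val_trM hg]

theorem chunk_len : repsC.flatten.length = 1540 ∧ lvl1.reps.length = 114 ∧
    repsC.flatten.getD 0 oneM = oneM ∧ lvl2.reps = [oneM] := by
  refine ⟨?_, ?_, ?_, ?_⟩ <;> decide +kernel

theorem repC_eq (i : ℕ) : repC i = repsC.flatten.getD i oneM :=
  (flatten_getD shape_ok.1 i oneM).symm

attribute [local irreducible] mulM okM val oneM repsC lvl1 lvl2 parC siftC0 siftC1 siftC2 siftC3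

theorem reps_facts : (∀ r ∈ repsC.flatten, okM r = true) ∧ (∀ r ∈ lvl1.reps, okM r = true) ∧
    Bsgs.check ops [lvl0.base] [lvl1, lvl2] = true ∧
    Bsgs.check ops [lvl0.base, lvl1.base] [lvl2] = true := by
  have h := levels_ok
  rw [levels, Bsgs.check] at h
  simp only [Bool.and_eq_true, List.all_eq_true] at h
  obtain ⟨⟨⟨⟨⟨⟨⟨⟨hb, -⟩, hreps⟩, -⟩, -⟩, -⟩, -⟩, -⟩, hrec⟩ := h
  have hrec0 : Bsgs.check ops [lvl0.base] [lvl1, lvl2] = true := by simpa using hrec
  have h1 := hrec0
  rw [Bsgs.check] at h1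
  simp only [Bool.and_eq_true, List.all_eq_true] at h1
  obtain ⟨⟨⟨⟨⟨⟨⟨⟨-, -⟩, hreps1⟩, -⟩, -⟩, -⟩, -⟩, -⟩, hrec1⟩ := h1
  exact ⟨fun r hr => hreps r hr, fun r hr => hreps1 r hr, hrec0, by simpa using hrec1⟩

theorem ok_repC (i : ℕ) : okM (repC i) = true := by
  rw [repC_eq]
  rcases lt_or_ge i repsC.flatten.length with h | h
  · rw [List.getD_eq_getElem _ _ h]; exact reps_facts.1 _ (List.getElem_mem h)
  · rw [List.getD_eq_default _ _ h]; exact ok_one'

theorem ok_hC (j : ℕ) : okM (hC j) = true := by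
  rcases lt_or_ge j lvl1.reps.length with h | h
  · rw [hC, List.getD_eq_getElem _ _ h]; exact reps_facts.2.1 _ (List.getElem_mem h)
  · rw [hC, List.getD_eq_default _ _ h]; exact ok_one'

theorem mem_repC (i : ℕ) : val (repC i) ∈ grpJ1 := by
  obtain ⟨h1, h2⟩ := spec1.2.2.1 [i]
  have e : Bsgs.prodReps ops levels [i] = mulM (repC i) oneM := by
    rw [repC_eq]; rfl
  rw [e, ops_val, val_mul' _ _ (ok_repC i) ok_one', val_one', mul_one] at h2
  exact h2

theorem mem_hC (j : ℕ) : val (hC j) ∈ grpJ1 := by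
  obtain ⟨-, h2⟩ := spec1.2.2.1 [0, j]
  have e : Bsgs.prodReps ops levels [0, j] =
      mulM (repsC.flatten.getD 0 oneM) (mulM (hC j) oneM) := rfl
  rw [e, chunk_len.2.2.1, ops_val, val_mul' _ _ ok_one' (ok_mul' _ _ (ok_hC j) ok_one'),
    val_mul' _ _ (ok_hC j) ok_one', val_one', one_mul, mul_one] at h2
  exact h2

theorem mem_gC (i j : ℕ) : val (gC i j) ∈ grpJ1 := by
  rw [gC, val_mul' _ _ (ok_repC i) (ok_hC j)]
  exact grpJ1.mul_mem (mem_repC i) (mem_hC j)

theorem exists_gC {g : GL (Fin 7) (ZMod 11)} (hg : g ∈ grpJ1) :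
    ∃ i < 1540, ∃ j < 114, g = val (gC i j) := by
  obtain ⟨-, -, -, -, hdec⟩ := spec1
  obtain ⟨r, hr, h, hh, rfl⟩ := hdec lvl0 [lvl1, lvl2] rfl g hg
  obtain ⟨hok0, hok1, hc1, hc2⟩ := reps_facts
  have hb0 : ops.ptOk lvl0.base = true := head_ok.1
  obtain ⟨-, -, -, -, hdec1⟩ := Bsgs.spec ops (fixed := [lvl0.base]) (fun f hf => by
    rw [List.mem_singleton.1 hf]; exact hb0) hc1
  obtain ⟨t, ht, u, hu, rfl⟩ := hdec1 lvl1 [lvl2] rfl h hh
  have hb1 : ops.ptOk lvl1.base = true := by
    rw [Bsgs.check] at hc1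
    simp only [Bool.and_eq_true] at hc1
    exact hc1.1.1.1.1.1.1.1.1
  obtain ⟨-, -, -, -, hdec2⟩ := Bsgs.spec ops (fixed := [lvl0.base, lvl1.base]) (fun f hf => by
    rcases List.mem_cons.1 hf with rfl | hf
    · exact hb0
    · rw [List.mem_singleton.1 hf]; exact hb1) hc2
  obtain ⟨v, hv, w, hw, rfl⟩ := hdec2 lvl2 [] rfl u hu
  rw [chunk_len.2.2.2, List.mem_singleton] at hv
  subst hv
  have hw1 : w = 1 := by simpa [Bsgs.grp, Bsgs.allGens] using hw
  subst hw1
  obtain ⟨i, hi, rfl⟩ := List.getElem_of_mem hr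
  obtain ⟨j, hj, rfl⟩ := List.getElem_of_mem ht
  have hi' : i < repsC.flatten.length := hi
  refine ⟨i, chunk_len.1 ▸ hi', j, chunk_len.2.1 ▸ hj, ?_⟩
  rw [gC, val_mul' _ _ (ok_repC i) (ok_hC j), repC_eq, hC, List.getD_eq_getElem _ _ hi',
    List.getD_eq_getElem _ _ hj, ops_val, val_one', mul_one, mul_one]
  rfl

theorem length_conjTable (x : ℕ) : (conjTable x).length = 114 := by
  rw [conjTable, List.length_map, chunk_len.2.1]

theorem getD_map_aux (f : ℕ → ℕ) (d : ℕ) (L : List ℕ) (j : ℕ) (hj : j < L.length) :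
    (L.map f).getD j 0 = f (L.getD j d) := by
  rw [List.getD_eq_getElem _ _ (by simpa using hj), List.getD_eq_getElem _ _ hj, List.getElem_map]

theorem eq_map_range (L : List ℕ) (n : ℕ) (h : L.length = n) :
    L = (List.range n).map fun j => L.getD j 0 := by
  refine List.ext_getElem (by simp [h]) fun j h1 h2 => ?_
  simp only [List.getElem_map, List.getElem_range]
  exact (List.getD_eq_getElem _ _ h1).symm

theorem length_filter_range (p : ℕ → Bool) (n : ℕ) : ((List.range n).filter p).length =
    ((Finset.range n).filter fun j => p j = true).card := by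
  rw [Finset.card_def, Finset.filter_val, Finset.range_val, Multiset.range, Multiset.filter_coe,
    Multiset.coe_card]
  simp

theorem conjTable_getD (x : ℕ) {j : ℕ} (hj : j < 114) :
    (conjTable x).getD j 0 = conjC (hC j) x :=
  getD_map_aux (fun h => conjC h x) oneM lvl1.reps j (lt_of_lt_of_eq hj chunk_len.2.1.symm)

theorem sum_range_block (f : ℕ → ℕ) (n : ℕ) : ∀ m, ∑ i ∈ Finset.range (n * m), f i =
    ∑ k ∈ Finset.range m, ∑ i ∈ Finset.range n, f (n * k + i)
  | 0 => by simp
  | m + 1 => by rw [mul_add, mul_one, Finset.sum_range_add, sum_range_block f n m,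
      Finset.sum_range_succ]

theorem list_sum_range (f : ℕ → ℕ) (n : ℕ) :
    ((List.range n).map f).sum = ∑ i ∈ Finset.range n, f i := rfl

theorem matchAt_eq (x i : ℕ) : matchAt x i =
    ((Finset.range 114).filter fun j => ((conjTable x).getD j 0).beq (backC i x) = true).card := by
  conv_lhs => rw [matchAt, eq_map_range _ _ (length_conjTable x), List.countP_map]
  rw [List.countP_eq_length_filter]
  exact length_filter_range _ 114

/-- A kernel count bounds the order of a centraliser in J1. -/
theorem card_cent_le {x c : ℕ} (hx : okM x = true) (h : countOk x c = true) :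
    Nat.card {g : grpJ1 // (g : GL (Fin 7) (ZMod 11)) * val x = val x * g} ≤ c := by
  classical
  set S := (Finset.range 1540).sigma fun i => (Finset.range 114).filter fun j =>
    ((conjTable x).getD j 0).beq (backC i x) = true with hS
  have hcard : S.card ≤ c := by
    rw [hS, Finset.card_sigma, show (1540 : ℕ) = 220 * 7 from rfl, sum_range_block]
    simp only [countOk, Nat.ble_eq, matchPart, list_sum_range] at h
    refine le_trans (le_of_eq ?_) h
    exact Finset.sum_congr rfl fun k _ => Finset.sum_congr rfl fun i _ => (matchAt_eq x _).symm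
  choose i hi j hj he using fun g : grpJ1 => exists_gC g.2
  let f : {g : grpJ1 // (g : GL (Fin 7) (ZMod 11)) * val x = val x * g} → S := fun g =>
    ⟨⟨i g.1, j g.1⟩, by
      simp only [hS, Finset.mem_sigma, Finset.mem_range, Finset.mem_filter]
      refine ⟨hi g.1, hj g.1, ?_⟩
      rw [conjTable_getD x (hj g.1), Nat.beq_eq]
      have hr := ok_repC (i g.1)
      have hh := ok_hC (j g.1)
      have h1 := ok_mul' _ _ (ok_trM hr) hx
      refine canon_inj (ok_conjC hh hx).1 (canon_mulM h1 hr) ?_
      rw [(ok_conjC hh hx).2, backC, val_mul' _ _ h1 hr, val_mul' _ _ (ok_trM hr) hx, val_trM hr]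
      have hc := g.2
      rw [he g.1, gC, val_mul' _ _ hr hh] at hc
      calc val (hC (j g.1)) * val x * (val (hC (j g.1)))⁻¹
          = (val (repC (i g.1)))⁻¹ * (val (repC (i g.1)) * val (hC (j g.1)) * val x) *
              (val (hC (j g.1)))⁻¹ := by group
        _ = (val (repC (i g.1)))⁻¹ * val x * val (repC (i g.1)) := by rw [hc]; group⟩
  refine le_trans (Nat.card_le_card_of_injective f ?_) (by
    rw [Nat.card_eq_fintype_card, Fintype.card_coe]; exact hcard)
  intro a b hab
  have h1 : i a.1 = i b.1 := congrArg (fun s : S => s.1.1) hab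
  have h2 : j a.1 = j b.1 := congrArg (fun s : S => s.1.2) hab
  apply Subtype.ext; apply Subtype.ext
  rw [he a.1, he b.1, h1, h2]

/-- Assembling a count from its blocks. -/
theorem countOk_of_parts (x c : ℕ) (v : List ℕ)
    (hv : ((List.range 7).map fun k => v.getD k 0).sum = c)
    (h : ∀ k, k < 7 → matchPart x k ≤ v.getD k 0) : countOk x c = true := by
  rw [countOk, Nat.ble_eq, ← hv]
  exact List.sum_le_sum fun k hk => h k (List.mem_range.1 hk)

end CfsgLib.J1Classes
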